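import Cfsg.Agent.Lib.J3Model.Span
import Cfsg.Agent.Lib.RigidGraph.J3.Nodes

/-! Kernel checks for the subspace action. -/

set_option autoImplicit false
set_option maxRecDepth 100000
set_option Elab.async false

namespace Cfsg.Agent.J3Model

open Cfsg.Agent.RigidGraph (slot allB)
open Cfsg.Agent.RigidGraph.J3 (nodes)

/-- a subspace is mapped into another -/
noncomputable def stepS (M : List ℕ) (i j : ℕ) : Bool :=
  Nat.beq (redC j (ap M (rowS i 0))) 0 && Nat.beq (redC j (ap M (rowS i 1))) 0 &&
  Nat.beq (redC j (ap M (rowS i 2))) 0 && Nat.beq (redC j (ap M (rowS i 3))) 0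

/-- a matrix induces a packed permutation on the subspaces -/
noncomputable def mapsOK (M : List ℕ) (e : ℕ) : Bool := allB (fun i => stepS M i (slot e i)) 6156

/-- a subspace is in normal form -/
noncomputable def normS (i : ℕ) : Bool :=
  allB (fun k => Nat.blt (pivS i k) 9 && Nat.beq (redC i (rowS i k)) 0) 4

theorem mapsA : mapsOK matA (nodes.getD 0 (0, 0)).1 = true := by decide +kernel

theorem mapsB : mapsOK matB (nodes.getD 1 (0, 0)).1 = true := by decide +kernel

/-- a program of products of coded matrices -/
def progOK (ns : List (List ℕ)) (pr : List (ℕ × ℕ)) (b : ℕ) : Bool :=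
  Nat.beq ns.length (b + pr.length) && ns.all (fun m => Nat.beq m.length 9) &&
    (List.range pr.length).all fun j => Nat.blt (pr.getD j (0, 0)).1 (b + j) && Nat.blt (pr.getD j (0, 0)).2 (b + j) &&
      mulC (ns.getD (pr.getD j (0, 0)).1 []) (ns.getD (pr.getD j (0, 0)).2 []) == ns.getD (b + j) []

theorem ab_prog : progOK abNodes abProg 2 = true := by decide +kernel

theorem gen_prog : progOK genNodes genProg 43 = true := by decide +kernel

/-- the scalar -/
def omegaC : List ℕ := oneC.map wmul

/-- starts and targets of the programs -/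
def endsOK : Bool :=
  abNodes.getD 0 [] == matA && abNodes.getD 1 [] == matB && genNodes.take 43 == genList &&
  Nat.beq abTgt.length 44 && (List.range 43).all (fun k => abNodes.getD (abTgt.getD k 0) [] == genList.getD k []) &&
  abNodes.getD (abTgt.getD 43 0) [] == omegaC &&
  abTgt.all (fun t => Nat.blt t abNodes.length) && genTgt.all (fun t => Nat.blt t genNodes.length) &&
  genNodes.getD (genTgt.getD 0 0) [] == matA && genNodes.getD (genTgt.getD 1 0) [] == matB &&
  Nat.beq genTgt.length 2 &&
  mulC matA matAi == oneC && mulC matAi matA == oneC && mulC matB matBi == oneC && mulC matBi matB == oneC &&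
  mulC matP matQ == oneC && mulC matQ matP == oneC &&
  [matA, matB, matAi, matBi, matP, matQ].all (fun m => Nat.beq m.length 9) && Nat.beq genList.length 43

theorem ends_ok : endsOK = true := by decide +kernel

/-- the listed vectors are meets of two subspaces -/
noncomputable def meetOK (k : ℕ) : Bool :=
  let v := (meets.getD k (0, 0, 0)).1
  let i := (meets.getD k (0, 0, 0)).2.1
  let j := (meets.getD k (0, 0, 0)).2.2
  Nat.blt i 6156 && Nat.blt j 6156 && normS i && normS j && Nat.beq (redC i v) 0 && Nat.beq (redC j v) 0 &&
    allB (fun c => Nat.blt (redC j (combC i c)) 262144 && (!Nat.beq (redC j (combC i c)) 0 || (Nat.beq (combC i c) 0 || Nat.beq (combC i c) v ||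
      Nat.beq (combC i c) (wmul v) || Nat.beq (combC i c) (Nat.xor v (wmul v))))) 256

theorem meets_ok : allB meetOK 10 = true := by decide +kernel

/-- the vectors form a frame -/
def frameOK : Bool :=
  (List.range 9).all (fun k => Nat.beq (matP.getD k 0) (meets.getD k (0, 0, 0)).1) &&
    (List.range 9).all fun k => (ap matQ (meets.getD 9 (0, 0, 0)).1).testBit k ||
      (ap matQ (meets.getD 9 (0, 0, 0)).1).testBit (9 + k)

theorem frame_ok : frameOK = true := by decide +kernel

/-- two subspaces differ -/
noncomputable def differOK : Bool :=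
  normS 1 && !Nat.beq (redC 1 (rowS 0 0)) 0 && Nat.blt (redC 1 (rowS 0 0)) 262144

theorem differ_ok : differOK = true := by decide +kernel

end Cfsg.Agent.J3Model
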