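import Cfsg.Prelude.Def_Spor_J3
import Mathlib.Tactic

/-! Vectors and matrices over the field of four elements coded by two planes of nine bits. -/

set_option autoImplicit false

namespace Cfsg.Agent.J3Model

open Cfsg.Spor Matrix

/-- The position of an index. -/
def ix (z : F9) : ℕ := 3 * z.1.val + z.2.val

theorem ix_lt (z : F9) : ix z < 9 := by
  revert z; decide

theorem ix_inj : ∀ a b : F9, ix a = ix b → a = b := by decide

/-- The index at a position. -/
def z9 (j : ℕ) : F9 := ((j / 3 : ℕ), (j : ℕ))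

theorem ix_z9 : ∀ j < 9, ix (z9 j) = j := by decide

theorem z9_ix : ∀ z : F9, z9 (ix z) = z := by decide

/-- Multiplication by the generator of the field. -/
def wmul (c : ℕ) : ℕ :=
  Nat.xor (Nat.mod (Nat.shiftRight c 9) 512)
    (Nat.shiftLeft (Nat.xor (Nat.mod c 512) (Nat.mod (Nat.shiftRight c 9) 512)) 9)

/-- A multiple of a coded vector: the scalar is `a + b ω`. -/
def smulC (a b : Bool) (c : ℕ) : ℕ := Nat.xor (bif a then c else 0) (bif b then wmul c else 0)

/-- A column times a coefficient read from a vector. -/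
def term (cs : List ℕ) (v j : ℕ) : ℕ := smulC (v.testBit j) (v.testBit (9 + j)) (cs.getD j 0)

/-- A coded matrix applied to a coded vector. -/
def ap (cs : List ℕ) (v : ℕ) : ℕ :=
  Nat.xor (term cs v 0) (Nat.xor (term cs v 1) (Nat.xor (term cs v 2) (Nat.xor (term cs v 3)
    (Nat.xor (term cs v 4) (Nat.xor (term cs v 5) (Nat.xor (term cs v 6) (Nat.xor (term cs v 7)
      (term cs v 8))))))))

/-- A product of coded matrices. -/
def mulC (A B : List ℕ) : List ℕ := B.map (ap A)

/-- The coded identity. -/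
def oneC : List ℕ := [1, 2, 4, 8, 16, 32, 64, 128, 256]

variable {F : Type*} [Field F]

/-- A bit as a field element. -/
def bitF (b : Bool) : F := bif b then 1 else 0

theorem two_zero [Fintype F] (hF : Fintype.card F = 4) : (2 : F) = 0 := by
  have h := FiniteField.cast_card_eq_zero F
  rw [hF] at h
  have h2 : (2 : F) * 2 = 0 := by
    rw [← h]; norm_num
  rcases mul_eq_zero.1 h2 with h3 | h3 <;> exact h3

theorem bitF_xor (h2 : (2 : F) = 0) : ∀ a b : Bool, (bitF (a ^^ b) : F) = bitF a + bitF b := by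
  intro a b
  cases a <;> cases b <;> simp [bitF]
  rw [← h2]; norm_num

/-- A coded vector. -/
def vecF (ω : F) (v : ℕ) : F9 → F := fun z => bitF (v.testBit (ix z)) + bitF (v.testBit (9 + ix z)) * ω

/-- A coded matrix. -/
def matF (ω : F) (cs : List ℕ) : Matrix F9 F9 F := Matrix.of fun w z => vecF ω (cs.getD (ix z) 0) w

variable (h2 : (2 : F) = 0) {ω : F} (hω : ω ^ 2 + ω + 1 = 0)

theorem vecF_zero : vecF ω 0 = 0 := by
  funext z; simp [vecF, bitF]

include h2

theorem vecF_xor (u v : ℕ) : vecF ω (Nat.xor u v) = vecF ω u + vecF ω v := by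
  funext z
  show bitF ((u ^^^ v).testBit _) + bitF ((u ^^^ v).testBit _) * ω = _
  rw [Nat.testBit_xor, Nat.testBit_xor, bitF_xor h2, bitF_xor h2]
  simp only [Pi.add_apply, vecF]
  ring

include hω

theorem vecF_wmul (c : ℕ) : vecF ω (wmul c) = ω • vecF ω c := by
  funext z
  have hi := ix_lt z
  have hw : wmul c = ((c >>> 9) % 2 ^ 9) ^^^ (((c % 2 ^ 9) ^^^ ((c >>> 9) % 2 ^ 9)) <<< 9) := rfl
  have e1 : (wmul c).testBit (ix z) = c.testBit (9 + ix z) := by
    rw [hw, Nat.testBit_xor, Nat.testBit_mod_two_pow, Nat.testBit_shiftRight, Nat.testBit_shiftLeft]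
    simp [hi, Nat.not_le.2 hi]
  have e2 : (wmul c).testBit (9 + ix z) = (c.testBit (ix z) ^^ c.testBit (9 + ix z)) := by
    rw [hw, Nat.testBit_xor, Nat.testBit_shiftLeft, Nat.testBit_xor, Nat.testBit_mod_two_pow,
      Nat.testBit_mod_two_pow, Nat.testBit_mod_two_pow, Nat.testBit_shiftRight]
    simp [hi]
  show bitF _ + bitF _ * ω = ω * (bitF _ + bitF _ * ω)
  rw [e1, e2, bitF_xor h2]
  set x : F := bitF (c.testBit (ix z))
  set y : F := bitF (c.testBit (9 + ix z))
  linear_combination (-y) * hω + (y + y * ω) * h2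

theorem vecF_smulC (a b : Bool) (c : ℕ) : vecF ω (smulC a b c) = (bitF a + bitF b * ω) • vecF ω c := by
  rw [smulC, vecF_xor h2]
  cases a <;> cases b <;> simp [bitF, vecF_zero, vecF_wmul h2 hω, add_smul]

theorem vecF_ap (cs : List ℕ) (v : ℕ) : vecF ω (ap cs v) = matF ω cs *ᵥ vecF ω v := by
  have key : matF ω cs *ᵥ vecF ω v =
      ∑ z : F9, (vecF ω v z) • vecF ω (cs.getD (ix z) 0) := by
    funext w
    simp only [Matrix.mulVec, dotProduct, matF, Matrix.of_apply, Finset.sum_apply, Pi.smul_apply, smul_eq_mul]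
    exact Finset.sum_congr rfl fun z _ => mul_comm _ _
  rw [key]
  have e : ∀ j, j < 9 → (vecF ω v (z9 j)) • vecF ω (cs.getD (ix (z9 j)) 0) = vecF ω (term cs v j) := by
    intro j hj
    rw [term, vecF_smulC h2 hω]
    simp only [vecF, ix_z9 j hj]
  have univ9 : (Finset.univ : Finset F9) = (Finset.range 9).image z9 := by decide
  rw [univ9, Finset.sum_image (by decide)]
  rw [show (Finset.range 9) = {0, 1, 2, 3, 4, 5, 6, 7, 8} from by decide]
  simp only [Finset.sum_insert, Finset.mem_insert, Finset.mem_singleton, Finset.sum_singleton,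
    OfNat.zero_ne_ofNat, OfNat.ofNat_ne_zero, or_self, not_false_eq_true, OfNat.one_ne_ofNat,
    OfNat.ofNat_eq_ofNat, Nat.reduceEqDiff, zero_ne_one, OfNat.ofNat_ne_one, one_ne_zero]
  rw [e 0 (by norm_num), e 1 (by norm_num), e 2 (by norm_num), e 3 (by norm_num), e 4 (by norm_num),
    e 5 (by norm_num), e 6 (by norm_num), e 7 (by norm_num), e 8 (by norm_num)]
  simp only [ap, vecF_xor h2]

theorem matF_mulC {A B : List ℕ} (hB : B.length = 9) : matF ω (mulC A B) = matF ω A * matF ω B := by
  refine Matrix.ext fun w z => ?_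
  have hz : ix z < B.length := hB ▸ ix_lt z
  show vecF ω ((B.map (ap A)).getD (ix z) 0) w = _
  rw [List.getD_eq_getElem _ _ (by simpa using hz), List.getElem_map, vecF_ap h2 hω,
    Matrix.mul_apply]
  simp only [Matrix.mulVec, dotProduct, matF, Matrix.of_apply, List.getD_eq_getElem _ _ hz]

omit h2 hω in
theorem bits_one : ∀ z z' : F9, (oneC.getD (ix z) 0).testBit (ix z') = decide (z' = z) ∧
    (oneC.getD (ix z) 0).testBit (9 + ix z') = false := by decide

omit h2 hω in
theorem matF_oneC : matF ω oneC = 1 := by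
  refine Matrix.ext fun w z => ?_
  show bitF _ + bitF _ * ω = _
  rw [(bits_one z w).1, (bits_one z w).2]
  by_cases h : w = z <;> simp [h, bitF, Matrix.one_apply]

/-- A scalar code as a field element: `0, 1, ω, 1 + ω`. -/
def scalF (ω : F) (k : ℕ) : F := bitF (k.testBit 0) + bitF (k.testBit 1) * ω

/-- A column from its entries. -/
def colOf (e : ℕ → ℕ) : ℕ :=
  (List.range 9).foldr (fun i r => Nat.xor r (Nat.xor (bif (e i).testBit 0 then 2 ^ i else 0)
    (bif (e i).testBit 1 then 2 ^ (9 + i) else 0))) 0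

/-- A coded matrix from its entries. -/
def colsOf (e : F9 → F9 → ℕ) : List ℕ :=
  (List.range 9).map fun j => colOf fun i => e (z9 i) (z9 j)

theorem vecF_colOf (e : ℕ → ℕ) (z : F9) : vecF ω (colOf e) z = scalF ω (e (ix z)) := by
  suffices ∀ l : List ℕ, l.Nodup → (∀ i ∈ l, i < 9) → vecF ω
      (l.foldr (fun i r => Nat.xor r (Nat.xor (bif (e i).testBit 0 then 2 ^ i else 0)
        (bif (e i).testBit 1 then 2 ^ (9 + i) else 0))) 0) z = if ix z ∈ l then scalF ω (e (ix z)) else 0 by
    rw [colOf, this _ List.nodup_range (fun i hi => List.mem_range.1 hi), if_pos (List.mem_range.2 (ix_lt z))]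
  intro l
  induction l with
  | nil => intro _ _; simp [vecF, bitF]
  | cons i l ih =>
    intro hn hlt
    rw [List.nodup_cons] at hn
    have hi := hlt i List.mem_cons_self
    have hz := ix_lt z
    rw [List.foldr_cons, vecF_xor h2, Pi.add_apply, ih hn.2 (fun a ha => hlt a (List.mem_cons_of_mem _ ha)),
      vecF_xor h2, Pi.add_apply]
    by_cases hzi : ix z = i
    · subst hzi
      rw [if_neg hn.1, if_pos List.mem_cons_self, zero_add]
      cases h0 : (e (ix z)).testBit 0 <;> cases h1 : (e (ix z)).testBit 1 <;>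
        simp [vecF, scalF, bitF, h0, h1, Nat.testBit_two_pow, show ¬ (9 + ix z = ix z) by omega]
    · have h3 : ¬ i = ix z := fun h => hzi h.symm
      have hz1 : vecF ω (bif (e i).testBit 0 then 2 ^ i else 0) z = 0 := by
        cases (e i).testBit 0 <;> simp [vecF, bitF, Nat.testBit_two_pow, h3, show ¬ i = 9 + ix z by omega]
      have hz2 : vecF ω (bif (e i).testBit 1 then 2 ^ (9 + i) else 0) z = 0 := by
        cases (e i).testBit 1 <;> simp [vecF, bitF, Nat.testBit_two_pow, h3, show ¬ 9 + i = ix z by omega]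
      rw [hz1, hz2, add_zero, add_zero]
      simp [hzi]

theorem matF_colsOf (e : F9 → F9 → ℕ) : matF ω (colsOf e) = Matrix.of fun w z => scalF ω (e w z) := by
  refine Matrix.ext fun w z => ?_
  show vecF ω ((colsOf e).getD (ix z) 0) w = scalF ω (e w z)
  rw [colsOf, List.getD_eq_getElem _ _ (by simpa using ix_lt z), List.getElem_map, List.getElem_range,
    vecF_colOf h2 hω, z9_ix, z9_ix]

end Cfsg.Agent.J3Model
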