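import Cfsg.Agent.Lib.J3Model.Code

/-! The generating matrices in coded form. -/

set_option autoImplicit false

namespace Cfsg.Agent.J3Model

open Cfsg.Spor Matrix

/-- a power of the generator -/
def powC (n : ZMod 3) : ℕ := if n = 0 then 1 else if n = 1 then 2 else 3

/-- coded diagonal of the first kind -/
def genA (Z : F9) : List ℕ := colsOf fun w z => if w = z then powC (Z.1 * z.1 + Z.2 * z.2) else 0

/-- coded diagonal of the second kind -/
def genE (Z : F9) : List ℕ := colsOf fun w z => if w = z then powC ((Z.1 - z.1) ^ 2 + (Z.2 - z.2) ^ 2) else 0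

/-- coded coefficient of a translation -/
def lamC (Z z : F9) : ℕ :=
  if z = 0 then 1 else if F9.div Z z = F9.I - F9.one then 2 else if F9.div Z z = -F9.I - F9.one then 3 else 1

/-- coded translation -/
def genD (Z : F9) : List ℕ := colsOf fun w z => if w = z + Z then lamC Z z else 0

/-- coded multiplication -/
def genB (Z : F9) : List ℕ := colsOf fun w z => if w = F9.mul Z z then 1 else 0

/-- coded inversion -/
def genC (Z : F9) : List ℕ := colsOf fun w z => if z = 0 then (if w = 0 then 1 else 0) else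
  if w = -F9.div Z z ∨ w = F9.mul F9.I (F9.div Z z) ∨ w = -F9.mul F9.I (F9.div Z z) then 1 else 0

/-- the elements of the index set -/
def all9 : List F9 := (List.range 9).map z9

/-- the nonzero ones -/
def nz9 : List F9 := all9.filter fun z => decide (z ≠ 0)

/-- all coded generators -/
def genList : List (List ℕ) :=
  all9.map genA ++ all9.map genE ++ all9.map genD ++ nz9.map genB ++ nz9.map genC

variable {F : Type*} [Field F] (h2 : (2 : F) = 0) {ω : F} (hω : ω ^ 2 + ω + 1 = 0)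

theorem scalF_zero : scalF ω 0 = 0 := by simp [scalF, bitF]

theorem scalF_one : scalF ω 1 = 1 := by
  simp [scalF, bitF, show Nat.testBit 1 1 = false from rfl]

theorem scalF_two : scalF ω 2 = ω := by
  simp [scalF, bitF, show Nat.testBit 2 0 = false from rfl, show Nat.testBit 2 1 = true from rfl]

include h2 hω

theorem scalF_three : scalF ω 3 = ω ^ 2 := by
  simp only [scalF, bitF, show Nat.testBit 3 0 = true from rfl, show Nat.testBit 3 1 = true from rfl, cond_true]
  linear_combination (-1) * hω + (1 + ω) * h2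

theorem scalF_powC (n : ZMod 3) : scalF ω (powC n) = omegaPow F ω n := by
  rcases (show ∀ n : ZMod 3, n = 0 ∨ n = 1 ∨ n = 2 from by decide) n with rfl | rfl | rfl
  · rw [show powC 0 = 1 from rfl, scalF_one, omegaPow, show (0 : ZMod 3).val = 0 from rfl, pow_zero]
  · rw [show powC 1 = 2 from rfl, scalF_two, omegaPow, show (1 : ZMod 3).val = 1 from rfl, pow_one]
  · rw [show powC 2 = 3 from rfl, scalF_three h2 hω, omegaPow, show (2 : ZMod 3).val = 2 from rfl]

theorem matF_genA (Z : F9) : matF ω (genA Z) = j3A F ω Z := by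
  refine Matrix.ext fun w z => ?_
  rw [genA, matF_colsOf h2 hω, Matrix.of_apply, j3A, Matrix.diagonal_apply]
  split_ifs with h
  · rw [scalF_powC h2 hω, h]
  · exact scalF_zero

theorem matF_genE (Z : F9) : matF ω (genE Z) = j3E F ω Z := by
  refine Matrix.ext fun w z => ?_
  rw [genE, matF_colsOf h2 hω, Matrix.of_apply, j3E, Matrix.diagonal_apply]
  split_ifs with h
  · rw [scalF_powC h2 hω, h]
  · exact scalF_zero

theorem matF_genD (Z : F9) : matF ω (genD Z) = j3D F ω Z := by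
  refine Matrix.ext fun w z => ?_
  rw [genD, matF_colsOf h2 hω, Matrix.of_apply, j3D, Matrix.of_apply]
  by_cases h : w = z + Z
  · rw [if_pos h, if_pos h, lamC, j3Lam]
    split_ifs <;> first | exact scalF_one | exact scalF_two | exact scalF_three h2 hω
  · rw [if_neg h, if_neg h, scalF_zero]

theorem matF_genB (Z : F9) : matF ω (genB Z) = j3B F Z := by
  refine Matrix.ext fun w z => ?_
  rw [genB, matF_colsOf h2 hω, Matrix.of_apply, j3B, Matrix.of_apply]
  split_ifs <;> first | exact scalF_one | exact scalF_zero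

theorem matF_genC (Z : F9) : matF ω (genC Z) = j3C F Z := by
  refine Matrix.ext fun w z => ?_
  rw [genC, matF_colsOf h2 hω, Matrix.of_apply, j3C, Matrix.of_apply]
  split_ifs <;> first | exact scalF_one | exact scalF_zero

omit h2 hω in
theorem mem_all9 (Z : F9) : Z ∈ all9 :=
  List.mem_map.2 ⟨ix Z, List.mem_range.2 (ix_lt Z), z9_ix Z⟩

omit h2 hω in
theorem mem_nz9 {Z : F9} : Z ∈ nz9 ↔ Z ≠ 0 := by
  rw [nz9, List.mem_filter]
  simp [mem_all9]

theorem j3Gens_eq : j3Gens F ω = {M | ∃ c ∈ genList, M = matF ω c} := by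
  ext M
  simp only [j3Gens, Set.mem_union, Set.mem_range, Set.mem_setOf_eq, genList, List.mem_append, List.mem_map]
  constructor
  · rintro ((((⟨Z, rfl⟩ | ⟨Z, rfl⟩) | ⟨Z, rfl⟩) | ⟨Z, hZ, rfl⟩) | ⟨Z, hZ, rfl⟩)
    · exact ⟨_, Or.inl (Or.inl (Or.inl (Or.inl ⟨Z, mem_all9 Z, rfl⟩))), (matF_genA h2 hω Z).symm⟩
    · exact ⟨_, Or.inl (Or.inl (Or.inl (Or.inr ⟨Z, mem_all9 Z, rfl⟩))), (matF_genE h2 hω Z).symm⟩
    · exact ⟨_, Or.inl (Or.inl (Or.inr ⟨Z, mem_all9 Z, rfl⟩)), (matF_genD h2 hω Z).symm⟩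
    · exact ⟨_, Or.inl (Or.inr ⟨Z, mem_nz9.2 hZ, rfl⟩), (matF_genB h2 hω Z).symm⟩
    · exact ⟨_, Or.inr ⟨Z, mem_nz9.2 hZ, rfl⟩, (matF_genC h2 hω Z).symm⟩
  · rintro ⟨c, ((((⟨Z, -, rfl⟩ | ⟨Z, -, rfl⟩) | ⟨Z, -, rfl⟩) | ⟨Z, hZ, rfl⟩) | ⟨Z, hZ, rfl⟩), rfl⟩
    · exact Or.inl (Or.inl (Or.inl (Or.inl ⟨Z, (matF_genA h2 hω Z).symm⟩)))
    · exact Or.inl (Or.inl (Or.inl (Or.inr ⟨Z, (matF_genE h2 hω Z).symm⟩)))
    · exact Or.inl (Or.inl (Or.inr ⟨Z, (matF_genD h2 hω Z).symm⟩))
    · exact Or.inl (Or.inr ⟨Z, mem_nz9.1 hZ, matF_genB h2 hω Z⟩)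
    · exact Or.inr ⟨Z, mem_nz9.1 hZ, matF_genC h2 hω Z⟩

end Cfsg.Agent.J3Model
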