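import Cfsg.Agent.Lib.J3Model.Checks
import Cfsg.Agent.Lib.RigidGraph.J3.Group
import Mathlib.LinearAlgebra.Matrix.GeneralLinearGroup.Defs
import Mathlib.GroupTheory.QuotientGroup.Basic

/-! The matrix group is a triple cover of the group on 6156 points. -/

set_option autoImplicit false
set_option maxRecDepth 100000

namespace Cfsg.Agent.J3Model

open Cfsg.Spor Matrix
open Cfsg.Agent.RigidGraph (slot allB allB_spec permOf permOf_val)
open Cfsg.Agent.RigidGraph.J3 (nodes j3Group gen_perm)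

attribute [local irreducible] nodes subs abNodes genNodes abProg genProg permOf

theorem beq9 {m : List ℕ} (h : m ∈ [matA, matB, matAi, matBi, matP, matQ]) : m.length = 9 := by
  have he := ends_ok
  simp only [endsOK, Bool.and_eq_true] at he
  exact Nat.beq_eq ▸ List.all_eq_true.1 he.1.2 m h

theorem ends_facts : abNodes.getD 0 [] = matA ∧ abNodes.getD 1 [] = matB ∧ genNodes.take 43 = genList ∧
    (∀ k < 43, abNodes.getD (abTgt.getD k 0) [] = genList.getD k []) ∧
    abNodes.getD (abTgt.getD 43 0) [] = omegaC ∧ (∀ k < 44, abTgt.getD k 0 < abNodes.length) ∧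
    (∀ k < 2, genTgt.getD k 0 < genNodes.length) ∧
    genNodes.getD (genTgt.getD 0 0) [] = matA ∧ genNodes.getD (genTgt.getD 1 0) [] = matB ∧
    mulC matA matAi = oneC ∧ mulC matAi matA = oneC ∧ mulC matB matBi = oneC ∧ mulC matBi matB = oneC ∧
    mulC matP matQ = oneC ∧ mulC matQ matP = oneC ∧ genList.length = 43 := by
  have he := ends_ok
  simp only [endsOK, Bool.and_eq_true, beq_iff_eq, Nat.beq_eq, List.all_eq_true, List.mem_range, Nat.blt_eq] at he
  obtain ⟨⟨⟨⟨⟨⟨⟨⟨⟨⟨⟨⟨⟨⟨⟨⟨⟨⟨h1, h2⟩, h3⟩, h4⟩, h5⟩, h6⟩, h7⟩, h8⟩, h9⟩, h10⟩, h11⟩, h12⟩, h13⟩, h14⟩, h15⟩, h16⟩, h17⟩, -⟩, h19⟩ := he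
  refine ⟨h1, h2, h3, h5, h6, fun k hk => h7 _ ?_, fun k hk => h8 _ ?_, h9, h10, h12, h13, h14, h15, h16, h17, h19⟩
  · rw [List.getD_eq_getElem _ _ (by omega)]; exact List.getElem_mem _
  · rw [List.getD_eq_getElem _ _ (by omega)]; exact List.getElem_mem _

variable {F : Type*} [Field F] {ω : F}

/-- matrices of members -/
def InGrp (ω : F) (H : Subgroup (GL F9 F)) (c : List ℕ) : Prop :=
  ∃ u ∈ H, (u : Matrix F9 F9 F) = matF ω c

variable (h2 : (2 : F) = 0) (hω : ω ^ 2 + ω + 1 = 0)

include h2 hω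

theorem prog_mem {ns : List (List ℕ)} {pr : List (ℕ × ℕ)} {b : ℕ} (h : progOK ns pr b = true)
    {H : Subgroup (GL F9 F)} (hb : ∀ i < b, InGrp ω H (ns.getD i [])) :
    ∀ i < ns.length, InGrp ω H (ns.getD i []) := by
  simp only [progOK, Bool.and_eq_true, Nat.beq_eq, List.all_eq_true, List.mem_range, Nat.blt_eq, beq_iff_eq] at h
  obtain ⟨⟨hl, h9⟩, hs⟩ := h
  intro i
  induction i using Nat.strong_induction_on with
  | _ i ih =>
    intro hi
    rcases lt_or_ge i b with hib | hib
    · exact hb i hib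
    obtain ⟨j, rfl⟩ : ∃ j, i = b + j := ⟨i - b, by omega⟩
    obtain ⟨⟨hx, hy⟩, he⟩ := hs j (by omega)
    obtain ⟨u, hu, eu⟩ := ih _ hx (by omega)
    obtain ⟨v, hv, ev⟩ := ih _ hy (by omega)
    refine ⟨u * v, mul_mem hu hv, ?_⟩
    rw [Units.val_mul, eu, ev, ← he, matF_mulC h2 hω]
    rw [List.getD_eq_getElem _ _ (show (pr.getD j (0, 0)).2 < ns.length by omega)]
    exact h9 _ (List.getElem_mem _)

/-- the first generator -/
noncomputable def unitA : GL F9 F where
  val := matF ω matA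
  inv := matF ω matAi
  val_inv := by rw [← matF_mulC h2 hω (beq9 (by simp)), ends_facts.2.2.2.2.2.2.2.2.2.1, matF_oneC]
  inv_val := by rw [← matF_mulC h2 hω (beq9 (by simp)), ends_facts.2.2.2.2.2.2.2.2.2.2.1, matF_oneC]

/-- the second generator -/
noncomputable def unitB : GL F9 F where
  val := matF ω matB
  inv := matF ω matBi
  val_inv := by rw [← matF_mulC h2 hω (beq9 (by simp)), ends_facts.2.2.2.2.2.2.2.2.2.2.2.1, matF_oneC]
  inv_val := by rw [← matF_mulC h2 hω (beq9 (by simp)), ends_facts.2.2.2.2.2.2.2.2.2.2.2.2.1, matF_oneC]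

theorem closure_ab : Subgroup.closure {unitA h2 hω, unitB h2 hω} = threeJ3 F ω := by
  obtain ⟨e0, e1, e2, e3, e4, e5, e6, e7, e8, -, -, -, -, -, -, e15⟩ := ends_facts
  have hA : ∀ k < 43, InGrp ω (Subgroup.closure {unitA h2 hω, unitB h2 hω}) (genList.getD k []) := by
    intro k hk
    rw [← e3 k hk]
    refine prog_mem h2 hω ab_prog (fun i hi => ?_) _ (e5 k (by omega))
    interval_cases i
    · exact ⟨unitA h2 hω, Subgroup.subset_closure (Or.inl rfl), by rw [e0]; rfl⟩
    · exact ⟨unitB h2 hω, Subgroup.subset_closure (Or.inr rfl), by rw [e1]; rfl⟩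
  refine le_antisymm ((Subgroup.closure_le _).2 ?_) ((Subgroup.closure_le _).2 ?_)
  · have hg : ∀ i < 43, InGrp ω (threeJ3 F ω) (genNodes.getD i []) := by
      intro i hi
      obtain ⟨u, -, hu⟩ := hA i hi
      have hgi : genNodes.getD i [] = genList.getD i [] := by
        have hl : i < (genNodes.take 43).length := by rw [e2, e15]; exact hi
        conv_rhs => rw [← e2]
        rw [List.getD_eq_getElem _ _ hl, List.getElem_take, List.getD_eq_getElem]
      rw [hgi]
      refine ⟨u, Subgroup.subset_closure ?_, hu⟩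
      show (u : Matrix F9 F9 F) ∈ j3Gens F ω
      rw [j3Gens_eq h2 hω, hu]
      refine ⟨_, ?_, rfl⟩
      rw [List.getD_eq_getElem _ _ (by omega)]
      exact List.getElem_mem _
    have hn := prog_mem h2 hω gen_prog hg
    rintro x (rfl | hx)
    · obtain ⟨u, hu, eu⟩ := hn _ (e6 0 (by norm_num))
      rw [e7] at eu
      rwa [show unitA h2 hω = u from Units.ext eu.symm]
    · rw [Set.mem_singleton_iff] at hx
      subst hx
      obtain ⟨u, hu, eu⟩ := hn _ (e6 1 (by norm_num))
      rw [e8] at eu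
      rwa [show unitB h2 hω = u from Units.ext eu.symm]
  · intro g hg
    have hg' : (g : Matrix F9 F9 F) ∈ j3Gens F ω := hg
    rw [j3Gens_eq h2 hω] at hg'
    obtain ⟨c, hc, e⟩ := hg'
    obtain ⟨k, hk, rfl⟩ := List.getElem_of_mem hc
    obtain ⟨u, hu, eu⟩ := hA k (by omega)
    rw [List.getD_eq_getElem _ _ hk] at eu
    rwa [show g = u from Units.ext (e.trans eu.symm)]

theorem omega_mem : ∃ z ∈ threeJ3 F ω, (z : Matrix F9 F9 F) = ω • (1 : Matrix F9 F9 F) := by
  obtain ⟨e0, e1, -, -, e4, e5, -⟩ := ends_facts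
  obtain ⟨u, hu, eu⟩ : InGrp ω (Subgroup.closure {unitA h2 hω, unitB h2 hω}) (abNodes.getD (abTgt.getD 43 0) []) := by
    refine prog_mem h2 hω ab_prog (fun i hi => ?_) _ (e5 43 (by norm_num))
    interval_cases i
    · exact ⟨unitA h2 hω, Subgroup.subset_closure (Or.inl rfl), by rw [e0]; rfl⟩
    · exact ⟨unitB h2 hω, Subgroup.subset_closure (Or.inr rfl), by rw [e1]; rfl⟩
  rw [closure_ab h2 hω] at hu
  refine ⟨u, hu, ?_⟩
  rw [eu, e4, ← matF_oneC (ω := ω)]
  refine Matrix.ext fun w z => ?_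
  show vecF ω ((oneC.map wmul).getD (ix z) 0) w = ω * vecF ω (oneC.getD (ix z) 0) w
  rw [List.getD_eq_getElem _ _ (by simp [oneC]; exact ix_lt z), List.getElem_map, vecF_wmul h2 hω,
    List.getD_eq_getElem]
  rfl

/-- the matrix maps each subspace into the one given by the permutation -/
def Induces (d : GL F9 F × Equiv.Perm (Fin 6156)) : Prop :=
  ∀ i : Fin 6156, ∀ x ∈ spanS ω i, (d.1 : Matrix F9 F9 F) *ᵥ x ∈ spanS ω (d.2 i : ℕ)

/-- the graph of the action -/
noncomputable def actPairs : Subgroup (GL F9 F × Equiv.Perm (Fin 6156)) :=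
  Subgroup.closure {(unitA h2 hω, permOf 6156 (nodes.getD 0 (0, 0))), (unitB h2 hω, permOf 6156 (nodes.getD 1 (0, 0)))}

theorem induces_of {M : List ℕ} {u : GL F9 F} (hu : (u : Matrix F9 F9 F) = matF ω M) {e : RigidGraph.Elt}
    (he : RigidGraph.permOK 6156 e = true) (h : mapsOK M e.1 = true) : Induces (ω := ω) (u, permOf 6156 e) := by
  intro i x hx
  simp only
  rw [hu, permOf_val he]
  have h' := allB_spec h i.2
  simp only [stepS, Bool.and_eq_true, Nat.beq_eq] at h'
  have hrow : ∀ k : Fin 4, matF ω M *ᵥ vecF ω (rowS i k) ∈ spanS ω (slot e.1 i) := by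
    intro k
    rw [← vecF_ap h2 hω]
    refine mem_of_redC h2 hω ?_
    fin_cases k
    exacts [h'.1.1.1, h'.1.1.2, h'.1.2, h'.2]
  induction hx using Submodule.span_induction with
  | mem y hy => obtain ⟨k, rfl⟩ := hy; exact hrow k
  | zero => simp
  | add y z _ _ hy hz => rw [Matrix.mulVec_add]; exact add_mem hy hz
  | smul c y _ hy => rw [Matrix.mulVec_smul]; exact Submodule.smul_mem _ c hy

theorem actPairs_induces [Fintype F] {d : GL F9 F × Equiv.Perm (Fin 6156)} (hd : d ∈ actPairs h2 hω) :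
    Induces (ω := ω) d := by
  classical
  rw [actPairs, ← Subgroup.mem_toSubmonoid, Subgroup.closure_toSubmonoid_of_finite] at hd
  induction hd using Submonoid.closure_induction with
  | mem x hx =>
    rcases hx with rfl | hx
    · exact induces_of h2 hω rfl gen_perm.1 mapsA
    · rw [Set.mem_singleton_iff] at hx
      subst hx
      exact induces_of h2 hω rfl gen_perm.2 mapsB
  | one => intro i x hx; simpa using hx
  | mul a b _ _ ha hb =>
    intro i x hx
    have := ha _ _ (hb i x hx)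
    simpa [Matrix.mulVec_mulVec] using this

omit h2 hω in
theorem simple_j3 : IsSimpleGroup ↥j3Group := RigidGraph.J3.isJ3_j3Group.1

omit h2 hω in
theorem center_j3 : Subgroup.center ↥j3Group = ⊥ := by
  haveI := simple_j3
  rcases IsSimpleGroup.eq_bot_or_eq_top_of_normal (Subgroup.center ↥j3Group) inferInstance with h | h
  · exact h
  exfalso
  haveI : Fact (Nat.Prime 2) := ⟨Nat.prime_two⟩
  haveI : Fact (Nat.Prime 3) := ⟨Nat.prime_three⟩
  obtain ⟨a, ha⟩ := exists_prime_orderOf_dvd_card' 2 (G := ↥j3Group) (by rw [RigidGraph.J3.card_j3Group]; norm_num)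
  have hn : (Subgroup.zpowers a).Normal := ⟨fun y hy g => by
    rw [Subgroup.mem_center_iff.1 (h.symm ▸ Subgroup.mem_top y : y ∈ Subgroup.center ↥j3Group) g,
      mul_inv_cancel_right]
    exact hy⟩
  rcases IsSimpleGroup.eq_bot_or_eq_top_of_normal (Subgroup.zpowers a) hn with h' | h'
  · rw [Subgroup.zpowers_eq_bot.1 h', orderOf_one] at ha
    norm_num at ha
  · have := Nat.card_zpowers a
    rw [h', Subgroup.card_top, RigidGraph.J3.card_j3Group, ha] at this
    norm_num at this

theorem map_fst : (actPairs h2 hω).map (MonoidHom.fst (GL F9 F) (Equiv.Perm (Fin 6156))) = threeJ3 F ω := by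
  rw [actPairs, MonoidHom.map_closure, Set.image_pair, ← closure_ab h2 hω]
  rfl

theorem map_snd : (actPairs h2 hω).map (MonoidHom.snd (GL F9 F) (Equiv.Perm (Fin 6156))) = j3Group := by
  rw [actPairs, MonoidHom.map_closure, Set.image_pair]
  rfl

/-- one matrix induces at most one permutation -/
theorem fst_inj [Fintype F] :
    Function.Injective ((MonoidHom.fst (GL F9 F) (Equiv.Perm (Fin 6156))).comp (actPairs h2 hω).subtype) := by
  classical
  haveI := simple_j3
  let N : Subgroup ↥j3Group :=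
    { carrier := {s | ((1 : GL F9 F), (s : Equiv.Perm (Fin 6156))) ∈ actPairs h2 hω}
      one_mem' := one_mem (actPairs h2 hω)
      mul_mem' := fun {a b} ha hb => by
        have := (actPairs h2 hω).mul_mem ha hb
        simpa using this
      inv_mem' := fun {a} ha => by
        have := (actPairs h2 hω).inv_mem ha
        simpa using this }
  have hN : N.Normal := ⟨fun s hs g => by
    have hg : (g : Equiv.Perm (Fin 6156)) ∈ (actPairs h2 hω).map (MonoidHom.snd (GL F9 F) (Equiv.Perm (Fin 6156))) := by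
      rw [map_snd]; exact g.2
    obtain ⟨d, hd, e⟩ := Subgroup.mem_map.1 hg
    have hs' : ((1 : GL F9 F), (s : Equiv.Perm (Fin 6156))) ∈ actPairs h2 hω := hs
    have := mul_mem (mul_mem hd hs') (inv_mem hd)
    show ((1 : GL F9 F), ((g * s * g⁻¹ : ↥j3Group) : Equiv.Perm (Fin 6156))) ∈ actPairs h2 hω
    rw [MonoidHom.coe_snd] at e
    convert this using 1
    ext1 <;> simp [← e]⟩
  rw [injective_iff_map_eq_one]
  rintro ⟨⟨u, s⟩, hd⟩ hu
  simp only [MonoidHom.coe_comp, Function.comp_apply, Subgroup.subtype_apply, MonoidHom.coe_fst] at hu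
  subst hu
  have hs : s ∈ j3Group := map_snd h2 hω ▸ Subgroup.mem_map_of_mem _ hd
  rcases IsSimpleGroup.eq_bot_or_eq_top_of_normal N hN with hb | ht
  · have : (⟨s, hs⟩ : ↥j3Group) ∈ N := hd
    rw [hb, Subgroup.mem_bot] at this
    exact Subtype.ext (Prod.ext rfl (congrArg Subtype.val this))
  exfalso
  haveI := RigidGraph.J3.pretransitive_j3Group
  obtain ⟨g, hg⟩ := MulAction.exists_smul_eq ↥j3Group (0 : Fin 6156) 1
  have hgN : g ∈ N := ht ▸ Subgroup.mem_top g
  have hI := actPairs_induces h2 hω hgN 0 (vecF ω (rowS 0 0)) (row_mem ω 0 0 (by norm_num))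
  simp only [Units.val_one, Matrix.one_mulVec] at hI
  rw [show ((g : Equiv.Perm (Fin 6156)) 0) = (1 : Fin 6156) from hg] at hI
  have hd' := differ_ok
  simp only [differOK, Bool.and_eq_true, Bool.not_eq_true', Nat.blt_eq] at hd'
  obtain ⟨⟨hn, hne⟩, hlt⟩ := hd'
  have hp : ∀ k < 4, pivS 1 k < 9 ∧ redC 1 (rowS 1 k) = 0 := fun k hk => by
    have := allB_spec hn hk
    simpa only [Bool.and_eq_true, Nat.blt_eq, Nat.beq_eq] using this
  have h0 := redL_span h2 hω (fun k hk => (hp k hk).1) (fun k hk => (hp k hk).2) hI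
  rw [redL_vec h2 hω (fun k hk => (hp k hk).1)] at h0
  rw [vecF_eq_zero h2 hω hlt h0] at hne
  exact Bool.noConfusion hne

/-- a matrix fixing all the subspaces is a scalar -/
theorem scalar_of [Fintype F] (hF : Fintype.card F = 4) {u : GL F9 F}
    (hu : (u, (1 : Equiv.Perm (Fin 6156))) ∈ actPairs h2 hω) :
    ∃ c : F, c ≠ 0 ∧ (u : Matrix F9 F9 F) = c • (1 : Matrix F9 F9 F) := by
  classical
  have hI := actPairs_induces h2 hω hu
  have hv : ∀ k < 10, ∃ c : F, (u : Matrix F9 F9 F) *ᵥ vecF ω (meets.getD k (0, 0, 0)).1 =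
      c • vecF ω (meets.getD k (0, 0, 0)).1 := by
    intro k hk
    have h := allB_spec meets_ok hk
    simp only [meetOK, Bool.and_eq_true, Nat.beq_eq, Nat.blt_eq] at h
    obtain ⟨⟨⟨⟨⟨⟨hi, hj⟩, hni⟩, hnj⟩, hri⟩, hrj⟩, hall⟩ := h
    set v := (meets.getD k (0, 0, 0)).1
    set i := (meets.getD k (0, 0, 0)).2.1
    set j := (meets.getD k (0, 0, 0)).2.2
    have x1 := hI ⟨i, hi⟩ _ (mem_of_redC h2 hω hri)
    have x2 := hI ⟨j, hj⟩ _ (mem_of_redC h2 hω hrj)
    simp only [Equiv.Perm.one_apply] at x1 x2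
    obtain ⟨c, hc, ec⟩ := mem_span_comb h2 hω hF x1
    have hp : ∀ a < 4, pivS j a < 9 ∧ redC j (rowS j a) = 0 := fun a ha => by
      have := allB_spec hnj ha
      simpa only [Bool.and_eq_true, Nat.blt_eq, Nat.beq_eq] using this
    rw [ec] at x2 ⊢
    have h0 := redL_span h2 hω (fun a ha => (hp a ha).1) (fun a ha => (hp a ha).2) x2
    rw [redL_vec h2 hω (fun a ha => (hp a ha).1)] at h0
    have h' := allB_spec hall hc
    simp only [Bool.and_eq_true, Bool.or_eq_true, Bool.not_eq_true', Nat.beq_eq, Nat.blt_eq] at h'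
    obtain ⟨hlt, h'⟩ := h'
    rcases h' with hne | ((he | he) | he) | he
    · rw [vecF_eq_zero h2 hω hlt h0] at hne
      exact Bool.noConfusion hne
    · exact ⟨0, by rw [he, vecF_zero, zero_smul]⟩
    · exact ⟨1, by rw [he, one_smul]⟩
    · exact ⟨ω, by rw [he, vecF_wmul h2 hω]⟩
    · exact ⟨1 + ω, by rw [he, vecF_xor h2, vecF_wmul h2 hω, add_smul, one_smul]⟩
  choose c hc using hv
  have hfr := frame_ok
  simp only [frameOK, Bool.and_eq_true, List.all_eq_true, List.mem_range, Nat.beq_eq, Bool.or_eq_true] at hfr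
  obtain ⟨-, -, -, -, -, -, -, -, -, -, -, -, -, hPQ, hQP, -⟩ := ends_facts
  have ePQ : matF ω matP * matF ω matQ = 1 := by
    rw [← matF_mulC h2 hω (beq9 (by simp)), hPQ, matF_oneC]
  have eQP : matF ω matQ * matF ω matP = 1 := by
    rw [← matF_mulC h2 hω (beq9 (by simp)), hQP, matF_oneC]
  let d : F9 → F := fun z => c (ix z) ((ix_lt z).trans (by norm_num))
  have hP : (u : Matrix F9 F9 F) * matF ω matP = matF ω matP * Matrix.diagonal d := by
    refine Matrix.ext fun w z => ?_
    rw [Matrix.mul_diagonal, Matrix.mul_apply]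
    have := congrFun (hc (ix z) ((ix_lt z).trans (by norm_num))) w
    simp only [Matrix.mulVec, dotProduct, Pi.smul_apply, smul_eq_mul] at this
    simp only [matF, Matrix.of_apply, hfr.1 _ (ix_lt z)]
    rw [this, mul_comm]
  have hu' : (u : Matrix F9 F9 F) = matF ω matP * Matrix.diagonal d * matF ω matQ := by
    rw [← hP, Matrix.mul_assoc, ePQ, Matrix.mul_one]
  set v9 := (meets.getD 9 (0, 0, 0)).1
  have hd : ∀ z, d z = c 9 (by norm_num) := by
    intro z
    have h9 := hc 9 (by norm_num)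
    rw [hu', ← Matrix.mulVec_mulVec, ← Matrix.mulVec_mulVec, ← vecF_ap h2 hω] at h9
    have h9' := congrArg (fun x => matF ω matQ *ᵥ x) h9
    rw [Matrix.mulVec_mulVec, eQP, Matrix.one_mulVec, Matrix.mulVec_smul, ← vecF_ap h2 hω] at h9'
    have hz := congrFun h9' z
    rw [Matrix.mulVec_diagonal, Pi.smul_apply, smul_eq_mul] at hz
    refine mul_right_cancel₀ (fun h0 => ?_) hz
    obtain ⟨ha, hb⟩ := bitsF_zero h2 hω h0
    rcases hfr.2 (ix z) (ix_lt z) with h | h
    · rw [ha] at h; exact Bool.noConfusion h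
    · rw [hb] at h; exact Bool.noConfusion h
  refine ⟨c 9 (by norm_num), fun h0 => ?_, ?_⟩
  · have : (u : Matrix F9 F9 F) = 0 := by
      rw [hu', show Matrix.diagonal d = 0 from by rw [show d = 0 from funext fun z => (hd z).trans h0]; simp]
      simp
    exact Units.ne_zero u this
  · rw [hu', show Matrix.diagonal d = c 9 (by norm_num) • (1 : Matrix F9 F9 F) from by
      rw [show d = fun _ => c 9 (by norm_num) from funext hd]
      ext a b
      by_cases h : a = b <;> simp [h, Matrix.one_apply]]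
    rw [Matrix.mul_smul, Matrix.smul_mul, Matrix.mul_one, ePQ]

end Cfsg.Agent.J3Model
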