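import Cfsg.Agent.Lib.J3Model.MultDefs

/-! Kernel checks for the certificates of the triple cover. -/

set_option autoImplicit false
set_option maxRecDepth 100000
set_option Elab.async false

namespace Cfsg.Agent.J3Model.Mult

open Cfsg.Agent.PermSchur (rowsOK)
open Cfsg.Agent.PermCert (allBelow allBelow_spec)

theorem two_wf : Tails.wfOK twoData = true := by decide +kernel
theorem two_facts : factsOK twoData twoW twoFW = true := by decide +kernel
theorem two_rows : rowsOK twoData = true := by decide +kernel
theorem two_rels : twoData.rels.all (fun r => match r with
    | .assoc a b c => (a ++ b ++ c).all (fun q => Nat.blt q twoData.a.length) | .fuse .. => true) = true := by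
  decide +kernel
theorem two_derived : Tails.derivedOK twoData = true := by decide +kernel
theorem two_ne : chainNeOK twoData twoW = true := by decide +kernel
theorem two_seq : seqOK twoData twoW = true := by decide +kernel
theorem two_chainOK : allBelow (Tails.chainAt twoData twoChainP twoChainC) twoData.gs.length = true := by
  decide +kernel
theorem two_chain : Tails.Chain twoData :=
  Tails.chain_of _ _ _ (allBelow_spec _ _ two_chainOK)

theorem three_wf : Tails.wfOK threeData = true := by decide +kernel
theorem three_facts : factsOK threeData threeW threeFW = true := by decide +kernel
theorem three_rows : rowsOK threeData = true := by decide +kernel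
theorem three_rels : threeData.rels.all (fun r => match r with
    | .assoc a b c => (a ++ b ++ c).all (fun q => Nat.blt q threeData.a.length) | .fuse .. => true) = true := by
  decide +kernel
theorem three_derived : Tails.derivedOK threeData = true := by decide +kernel
theorem three_ne : chainNeOK threeData threeW = true := by decide +kernel
theorem three_seq : seqOK threeData threeW = true := by decide +kernel
theorem three_chainOK : allBelow (Tails.chainAt threeData threeChainP threeChainC) threeData.gs.length = true := by
  decide +kernel
theorem three_chain : Tails.Chain threeData :=
  Tails.chain_of _ _ _ (allBelow_spec _ _ three_chainOK)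

theorem five_wf : Tails.wfOK fiveData = true := by decide +kernel
theorem five_facts : factsOK fiveData fiveW fiveFW = true := by decide +kernel
theorem five_rows : rowsOK fiveData = true := by decide +kernel
theorem five_rels : fiveData.rels.all (fun r => match r with
    | .assoc a b c => (a ++ b ++ c).all (fun q => Nat.blt q fiveData.a.length) | .fuse .. => true) = true := by
  decide +kernel
theorem five_derived : Tails.derivedOK fiveData = true := by decide +kernel
theorem five_ne : chainNeOK fiveData fiveW = true := by decide +kernel
theorem five_seq : seqOK fiveData fiveW = true := by decide +kernel
theorem five_chainOK : allBelow (Tails.chainAt fiveData fiveChainP fiveChainC) fiveData.gs.length = true := by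
  decide +kernel
theorem five_chain : Tails.Chain fiveData :=
  Tails.chain_of _ _ _ (allBelow_spec _ _ five_chainOK)

theorem seventeen_wf : Tails.wfOK seventeenData = true := by decide +kernel
theorem seventeen_facts : factsOK seventeenData seventeenW seventeenFW = true := by decide +kernel
theorem seventeen_rows : rowsOK seventeenData = true := by decide +kernel
theorem seventeen_rels : seventeenData.rels.all (fun r => match r with
    | .assoc a b c => (a ++ b ++ c).all (fun q => Nat.blt q seventeenData.a.length) | .fuse .. => true) = true := by
  decide +kernel
theorem seventeen_derived : Tails.derivedOK seventeenData = true := by decide +kernel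
theorem seventeen_ne : chainNeOK seventeenData seventeenW = true := by decide +kernel
theorem seventeen_seq : seqOK seventeenData seventeenW = true := by decide +kernel
theorem seventeen_chainOK : allBelow (Tails.chainAt seventeenData seventeenChainP seventeenChainC) seventeenData.gs.length = true := by
  decide +kernel
theorem seventeen_chain : Tails.Chain seventeenData :=
  Tails.chain_of _ _ _ (allBelow_spec _ _ seventeen_chainOK)

theorem nineteen_wf : Tails.wfOK nineteenData = true := by decide +kernel
theorem nineteen_facts : factsOK nineteenData nineteenW nineteenFW = true := by decide +kernel
theorem nineteen_rows : rowsOK nineteenData = true := by decide +kernel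
theorem nineteen_rels : nineteenData.rels.all (fun r => match r with
    | .assoc a b c => (a ++ b ++ c).all (fun q => Nat.blt q nineteenData.a.length) | .fuse .. => true) = true := by
  decide +kernel
theorem nineteen_derived : Tails.derivedOK nineteenData = true := by decide +kernel
theorem nineteen_ne : chainNeOK nineteenData nineteenW = true := by decide +kernel
theorem nineteen_seq : seqOK nineteenData nineteenW = true := by decide +kernel
theorem nineteen_chainOK : allBelow (Tails.chainAt nineteenData nineteenChainP nineteenChainC) nineteenData.gs.length = true := by
  decide +kernel
theorem nineteen_chain : Tails.Chain nineteenData :=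
  Tails.chain_of _ _ _ (allBelow_spec _ _ nineteen_chainOK)

end Cfsg.Agent.J3Model.Mult
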