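import Cfsg.Agent.Lib.J3Model.Triple
import Cfsg.Agent.Lib.J3Model.MultData
import Cfsg.Agent.Lib.Schur.Tails
import Cfsg.Agent.Lib.Schur.SeqCard

/-! Products of program nodes in the triple cover, compared as codes. -/

set_option autoImplicit false
set_option maxRecDepth 100000

namespace Cfsg.Agent.J3Model.Mult

open Cfsg.Spor Matrix
open Cfsg.Agent.PermSchur (SchurData rowsOK val val_cons val_append)
open Cfsg.Agent.PermCert (allBelow allBelow_spec)

/-- the node of a listed element -/
def code (W : List ℕ) (q : ℕ) : List ℕ := mNodes.getD (W.getD q 0) []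

/-- a product of listed elements -/
def prodC (W : List ℕ) (u : List ℕ) : List ℕ := u.foldr (fun q r => mulC (code W q) r) oneC

/-- the starts of the program -/
def startsOK : Bool := mNodes.getD 0 [] == matA && mNodes.getD 1 [] == matB && Nat.blt 1 mNodes.length

theorem m_prog : progOK mNodes mProg 2 = true := by decide +kernel

theorem m_starts : startsOK = true := by decide +kernel

theorem m_small : mNodes.all (fun m => m.all fun c => Nat.blt c 262144) = true := by decide +kernel

/-- positions are in range -/
def okW (W : List ℕ) : Bool := W.all fun t => Nat.blt t mNodes.length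

attribute [local irreducible] mNodes mProg

variable {F : Type*} [Field F] [Fintype F] (hF : Fintype.card F = 4) {ω : F} (hω : ω ^ 2 + ω + 1 = 0)

include hF hω

theorem node_mem (t : ℕ) (ht : t < mNodes.length) : InGrp ω (threeJ3 F ω) (mNodes.getD t []) := by
  have h2 := two_zero hF
  rw [← closure_ab h2 hω]
  have hs := m_starts
  simp only [startsOK, Bool.and_eq_true, beq_iff_eq, Nat.blt_eq] at hs
  refine prog_mem h2 hω m_prog (fun i hi => ?_) t ht
  interval_cases i
  · exact ⟨unitA h2 hω, Subgroup.subset_closure (Or.inl rfl), by rw [hs.1.1]; rfl⟩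
  · exact ⟨unitB h2 hω, Subgroup.subset_closure (Or.inr rfl), by rw [hs.1.2]; rfl⟩

/-- a listed element -/
noncomputable def el (W : List ℕ) (q : ℕ) : ↥(threeJ3 F ω) :=
  if h : W.getD q 0 < mNodes.length then ⟨(node_mem hF hω _ h).choose, (node_mem hF hω _ h).choose_spec.1⟩ else 1

omit hF hω in
theorem prodC_length (W : List ℕ) : ∀ u : List ℕ, (prodC W u).length = 9 := by
  intro u
  induction u with
  | nil => rfl
  | cons q u ih => simp only [prodC, List.foldr_cons, mulC, List.length_map] at ih ⊢; exact ih

theorem okW_pos {W : List ℕ} (h : okW W = true) (q : ℕ) : W.getD q 0 < mNodes.length := by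
  have hs := m_starts
  simp only [startsOK, Bool.and_eq_true, Nat.blt_eq] at hs
  rcases lt_or_ge q W.length with hq | hq
  · rw [List.getD_eq_getElem _ _ hq]
    simp only [okW, List.all_eq_true, Nat.blt_eq] at h
    exact h _ (List.getElem_mem hq)
  · rw [List.getD_eq_default _ _ hq]; omega

theorem el_coe {W : List ℕ} (h : okW W = true) (q : ℕ) :
    ((el hF hω W q : GL F9 F) : Matrix F9 F9 F) = matF ω (code W q) := by
  have hp := okW_pos hF hω h q
  rw [el, dif_pos hp]
  exact (node_mem hF hω _ hp).choose_spec.2

theorem val_coe {W : List ℕ} (h : okW W = true) : ∀ u : List ℕ,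
    (((val (el hF hω W) u : ↥(threeJ3 F ω)) : GL F9 F) : Matrix F9 F9 F) = matF ω (prodC W u) := by
  intro u
  induction u with
  | nil => simp [val, prodC, matF_oneC]
  | cons q u ih =>
    rw [val_cons, Subgroup.coe_mul, Units.val_mul, el_coe hF hω h, ih]
    exact (matF_mulC (two_zero hF) hω (prodC_length W u)).symm

theorem ext_code {W : List ℕ} (h : okW W = true) {u v : List ℕ} (e : prodC W u = prodC W v) :
    val (el hF hω W) u = val (el hF hω W) v :=
  Subtype.ext (Units.ext (by rw [val_coe hF hω h, val_coe hF hω h, e]))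

omit hF hω in
/-- the equations of the rules -/
def factsOK (d : SchurData) (W FW : List ℕ) : Bool :=
  okW W && okW FW &&
  allBelow (fun i => prodC W (List.replicate d.p i) == prodC W (d.pow.getD i []) &&
    allBelow (fun j => prodC W [i, j] == prodC W ((d.comm.getD i []).getD j [])) i) d.a.length &&
  allBelow (fun t => allBelow (fun i =>
      mulC (code FW t) (prodC W ((d.fus.getD t ⟨(0, 0), [], []⟩).src.getD i [])) ==
        mulC (prodC W ((d.fus.getD t ⟨(0, 0), [], []⟩).img.getD i [])) (code FW t))
    (d.fus.getD t ⟨(0, 0), [], []⟩).src.length) d.fus.length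

theorem facts {d : SchurData} {W FW : List ℕ} (h : factsOK d W FW = true) :
    Tails.Facts d (el hF hω W) (el hF hω FW) := by
  simp only [factsOK, Bool.and_eq_true] at h
  obtain ⟨⟨⟨hW, hFW⟩, h1⟩, h2⟩ := h
  refine ⟨fun i hi => ?_, fun i hi j hj => ?_, fun t ht i hi => ?_⟩
  · have h' := allBelow_spec _ _ h1 i hi
    simp only [Bool.and_eq_true, beq_iff_eq] at h'
    rw [← SeqCard.val_replicate]
    exact ext_code hF hω hW h'.1
  · have h' := allBelow_spec _ _ h1 i hi
    simp only [Bool.and_eq_true] at h'
    rw [show el hF hω W i * el hF hω W j = val (el hF hω W) [i, j] by simp [val]]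
    exact ext_code hF hω hW (beq_iff_eq.1 (allBelow_spec _ _ h'.2 j hj))
  · have h' := allBelow_spec _ _ (allBelow_spec _ _ h2 t ht) i hi
    rw [mul_inv_eq_iff_eq_mul]
    refine Subtype.ext (Units.ext ?_)
    have hl : (code FW t).length = 9 := by
      have hp := m_prog
      simp only [progOK, Bool.and_eq_true, List.all_eq_true, Nat.beq_eq] at hp
      have ht' := okW_pos hF hω hFW t
      rw [code, List.getD_eq_getElem _ _ ht']
      exact hp.1.2 _ (List.getElem_mem _)
    rw [Subgroup.coe_mul, Subgroup.coe_mul, Units.val_mul, Units.val_mul, el_coe hF hω hFW, val_coe hF hω hW,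
      val_coe hF hω hW, ← matF_mulC (two_zero hF) hω (prodC_length W _), ← matF_mulC (two_zero hF) hω hl,
      beq_iff_eq.1 h']

omit hF hω in
/-- each listed generator of the derived group differs from the forms of the earlier ones -/
def chainNeOK (d : SchurData) (W : List ℕ) : Bool :=
  allBelow (fun i =>
    let g := prodC W (d.gs.getD i ([], [])).1
    g.all (fun c => Nat.blt c 262144) && (Tails.formsOf d i).all fun f =>
      let h := prodC W f
      h.all (fun c => Nat.blt c 262144) && !(g == h)) d.gs.length

theorem code_inj {A B : List ℕ} (hA : A.length = 9) (hB : B.length = 9) (sA : ∀ c ∈ A, c < 262144)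
    (sB : ∀ c ∈ B, c < 262144) (h : matF ω A = matF ω B) : A = B := by
  have h2 := two_zero hF
  refine List.ext_getElem (hA.trans hB.symm) fun j hj hj' => ?_
  have e : vecF ω A[j] = vecF ω B[j] := by
    funext w
    have := congrFun (congrFun h w) (z9 j)
    simp only [matF, Matrix.of_apply, ix_z9 j (hA ▸ hj), List.getD_eq_getElem _ _ hj, List.getD_eq_getElem _ _ hj'] at this
    exact this
  have h0 : vecF ω (Nat.xor A[j] B[j]) = 0 := by
    rw [vecF_xor h2, e]
    funext z
    simp only [Pi.add_apply, Pi.zero_apply]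
    linear_combination (vecF ω B[j] z) * h2
  have hx := vecF_eq_zero h2 hω (Nat.xor_lt_two_pow (n := 18) (sA _ (List.getElem_mem _)) (sB _ (List.getElem_mem _))) h0
  exact Nat.xor_eq_zero_iff.1 hx

theorem chain_ne {d : SchurData} {W : List ℕ} (hW : okW W = true) (h : chainNeOK d W = true) :
    ∀ i < d.gs.length, ∀ f ∈ Tails.formsOf d i,
      val (el hF hω W) (d.gs.getD i ([], [])).1 ≠ val (el hF hω W) f := by
  intro i hi f hf e
  have h' := allBelow_spec _ _ h i hi
  simp only [Bool.and_eq_true, List.all_eq_true, Nat.blt_eq, Bool.not_eq_true', beq_eq_false_iff_ne] at h'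
  have e' : matF ω (prodC W (d.gs.getD i ([], [])).1) = matF ω (prodC W f) := by
    rw [← val_coe hF hω hW, ← val_coe hF hω hW, e]
  exact (h'.2 f hf).2 (code_inj hF hω (prodC_length W _) (prodC_length W _) h'.1 (h'.2 f hf).1 e')

omit hF hω in
/-- codes of the normal words -/
def lcodes (p : ℕ) (W : List ℕ) : ℕ → List (List ℕ)
  | 0 => [oneC]
  | i + 1 => (lcodes p W i).flatMap fun k => (List.range p).map fun e => (List.replicate e i).foldr (fun q r => mulC (code W q) r) k

omit hF hω in
theorem lcodes_eq (p : ℕ) (W : List ℕ) : ∀ i, lcodes p W i = (SeqCard.lforms p i).map (prodC W) := by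
  intro i
  induction i with
  | zero => simp [lcodes, SeqCard.lforms, prodC]
  | succ i ih =>
    simp only [lcodes, SeqCard.lforms, ih, List.flatMap_map, List.map_flatMap, List.map_map]
    refine List.flatMap_congr fun f _ => ?_
    refine List.map_congr_left fun e _ => ?_
    simp [prodC, List.foldr_append]

omit hF hω in
/-- the sequence is polycyclic and each term is new -/
def seqOK (d : SchurData) (W : List ℕ) : Bool :=
  allBelow (fun i => (d.pow.getD i []).all (fun q => Nat.blt q i) &&
    allBelow (fun j => ((d.comm.getD i []).getD j []) == ((d.comm.getD i []).getD j []).dropLast ++ [i] &&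
      ((d.comm.getD i []).getD j []).dropLast.all (fun q => Nat.blt q i)) i &&
    (code W i).all (fun c => Nat.blt c 262144) &&
    (lcodes d.p W i).all (fun k => k.all (fun c => Nat.blt c 262144) && !(k == code W i))) d.a.length

theorem card_seq {d : SchurData} {W FW : List ℕ} (hp : d.p.Prime) (hf : factsOK d W FW = true)
    (hs : seqOK d W = true) :
    Nat.card (Subgroup.closure {x | ∃ q < d.a.length, x = el hF hω W q}) = d.p ^ d.a.length := by
  have hW : okW W = true := by simp only [factsOK, Bool.and_eq_true] at hf; exact hf.1.1.1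
  have hFa := facts hF hω hf
  refine (SeqCard.closure_seq hp (el hF hω W) (fun i hi => ?_) (fun i hi j hj => ?_) (fun i hi f hf' e => ?_)).1
  · have h := allBelow_spec _ _ hs i hi
    simp only [Bool.and_eq_true, List.all_eq_true, Nat.blt_eq] at h
    exact ⟨_, h.1.1.1, hFa.pow i hi⟩
  · have h := allBelow_spec _ _ hs i hi
    simp only [Bool.and_eq_true, List.all_eq_true, Nat.blt_eq] at h
    have h' := allBelow_spec _ _ h.1.1.2 j hj
    simp only [Bool.and_eq_true, List.all_eq_true, Nat.blt_eq, beq_iff_eq] at h'
    exact ⟨_, h'.2, h'.1 ▸ hFa.comm i hi j hj⟩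
  · have h := allBelow_spec _ _ hs i hi
    simp only [Bool.and_eq_true, List.all_eq_true, Nat.blt_eq, Bool.not_eq_true', beq_eq_false_iff_ne] at h
    have hm : prodC W f ∈ lcodes d.p W i := by rw [lcodes_eq]; exact List.mem_map_of_mem hf'
    obtain ⟨hs1, hs2⟩ := h.2 _ hm
    have e' : matF ω (code W i) = matF ω (prodC W f) := by rw [← el_coe hF hω hW, e, val_coe hF hω hW]
    have hl : (code W i).length = 9 := by
      have hp' := m_prog
      simp only [progOK, Bool.and_eq_true, List.all_eq_true, Nat.beq_eq] at hp'
      rw [code, List.getD_eq_getElem _ _ (okW_pos hF hω hW i)]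
      exact hp'.1.2 _ (List.getElem_mem _)
    exact hs2 (code_inj hF hω hl (prodC_length W _) h.1.2 hs1 e').symm

/-- one prime -/
theorem kill {X : Type*} [Group X] (ξ : X →* ↥(threeJ3 F ω)) (hs : Function.Surjective ξ)
    (hc : ξ.ker ≤ Subgroup.center X) {d : SchurData} {W FW : List ℕ} (hwf : Tails.wfOK d = true)
    (hf : factsOK d W FW = true) (hr : rowsOK d = true)
    (hrel : d.rels.all (fun r => match r with
      | .assoc a b c => (a ++ b ++ c).all (fun q => Nat.blt q d.a.length) | .fuse .. => true) = true)
    (hd : Tails.derivedOK d = true) (hcl : Tails.Chain d) (hne : chainNeOK d W = true)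
    (hseq : seqOK d W = true) {p : ℕ} (hp : p.Prime) (hdp : d.p = p)
    (hdiv : ¬ p ∣ 150698880 / p ^ d.a.length) :
    ∃ U : Subgroup ↥(threeJ3 F ω), ¬ p ∣ U.index ∧ ∀ w : U.comap ξ,
      w ∈ commutator (U.comap ξ) → ξ w = 1 → (w : X) ^ p = 1 → (w : X) = 1 := by
  classical
  subst hdp
  have hW : okW W = true := by simp only [factsOK, Bool.and_eq_true] at hf; exact hf.1.1.1
  set U := Subgroup.closure {x | ∃ q < d.a.length, x = el hF hω W q} with hU
  refine ⟨U, ?_, fun w hw hw1 _ => ?_⟩
  · have h := U.card_mul_index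
    rw [card_seq hF hω hp hf hseq, card_threeJ3 hF hω] at h
    rwa [← h, Nat.mul_div_cancel_left _ (pow_pos hp.pos _)] at hdiv
  · exact Tails.kill hwf (facts hF hω hf) hr hrel hd hcl hp (chain_ne hF hω hW hne) ξ hc
      (fun q _ => MonoidHom.mem_range.2 (hs _)) (fun t _ => MonoidHom.mem_range.2 (hs _))
      (U := U) le_rfl w hw hw1

end Cfsg.Agent.J3Model.Mult
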