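import Cfsg.Agent.Lib.J3Model.MultChecks
import Cfsg.Agent.Lib.Schur.SylowKill

/-! The triple cover has trivial multiplier. -/

set_option autoImplicit false
set_option maxRecDepth 100000

namespace Cfsg.Agent.J3Model.Mult

open Cfsg.Spor
open Cfsg.Agent.PermSchur (rowsOK)

variable {F : Type*} [Field F] [Fintype F] (hF : Fintype.card F = 4) {ω : F} (hω : ω ^ 2 + ω + 1 = 0)

include hF hω

/-- Central extensions of the cover do not split off a part of the derived group. -/
theorem inf_commutator {X : Type*} [Group X] (ξ : X →* ↥(threeJ3 F ω)) (hs : Function.Surjective ξ)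
    (hc : ξ.ker ≤ Subgroup.center X) : ξ.ker ⊓ commutator X = ⊥ := by
  classical
  refine SylowKill.inf_commutator_eq_bot ξ hc hs fun p hp => ?_
  by_cases h2 : p = 2
  · subst h2
    exact kill hF hω ξ hs hc two_wf two_facts two_rows two_rels two_derived two_chain two_ne two_seq hp rfl
      (by decide +kernel)
  by_cases h3 : p = 3
  · subst h3
    exact kill hF hω ξ hs hc three_wf three_facts three_rows three_rels three_derived three_chain three_ne three_seq hp rfl
      (by decide +kernel)
  by_cases h5 : p = 5
  · subst h5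
    exact kill hF hω ξ hs hc five_wf five_facts five_rows five_rels five_derived five_chain five_ne five_seq hp rfl
      (by decide +kernel)
  by_cases h17 : p = 17
  · subst h17
    exact kill hF hω ξ hs hc seventeen_wf seventeen_facts seventeen_rows seventeen_rels seventeen_derived seventeen_chain seventeen_ne seventeen_seq hp rfl
      (by decide +kernel)
  by_cases h19 : p = 19
  · subst h19
    exact kill hF hω ξ hs hc nineteen_wf nineteen_facts nineteen_rows nineteen_rels nineteen_derived nineteen_chain nineteen_ne nineteen_seq hp rfl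
      (by decide +kernel)
  have hd : ¬ p ∣ 150698880 := by
    intro h
    rw [show (150698880 : ℕ) = 2 ^ 7 * (3 ^ 6 * (5 * (17 * 19))) by norm_num] at h
    rcases hp.dvd_mul.1 h with h | h
    · exact h2 ((Nat.prime_dvd_prime_iff_eq hp (by norm_num)).1 (hp.dvd_of_dvd_pow h))
    rcases hp.dvd_mul.1 h with h | h
    · exact h3 ((Nat.prime_dvd_prime_iff_eq hp (by norm_num)).1 (hp.dvd_of_dvd_pow h))
    rcases hp.dvd_mul.1 h with h | h
    · exact h5 ((Nat.prime_dvd_prime_iff_eq hp (by norm_num)).1 h)
    rcases hp.dvd_mul.1 h with h | h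
    · exact h17 ((Nat.prime_dvd_prime_iff_eq hp (by norm_num)).1 h)
    · exact h19 ((Nat.prime_dvd_prime_iff_eq hp (by norm_num)).1 h)
  refine ⟨⊤, by simpa using hp.one_lt.ne', fun w hw hw1 hwp => ?_⟩
  obtain ⟨hm, hmem⟩ := SylowKill.transfer_step ξ hs (⊥ : Subgroup ↥(threeJ3 F ω)) (z := (w : X))
    (hc (MonoidHom.mem_ker.2 hw1)) hw1 (by
      have := Subgroup.mem_map_of_mem (Subgroup.subtype _) hw
      rw [Subgroup.map_subtype_commutator] at this
      exact Subgroup.commutator_mono le_top le_top this)
  rw [SylowKill.commutator_cyclic ξ hc (⊥ : Subgroup ↥(threeJ3 F ω)), Subgroup.mem_bot] at hmem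
  have h2 : (w : X) ^ 150698880 = 1 := by
    have := congrArg Subtype.val hmem
    simp only [Subgroup.coe_one] at this
    rwa [Subgroup.index_bot, (card_threeJ3 hF hω)] at this
  have h3 := pow_gcd_eq_one.2 ⟨h2, hwp⟩
  rwa [Nat.Coprime.gcd_eq_one (Nat.coprime_comm.1 ((Nat.Prime.coprime_iff_not_dvd hp).2 hd)), pow_one] at h3

end Cfsg.Agent.J3Model.Mult
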