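import Cfsg.Agent.Lib.J3Model.Triple
import Mathlib.GroupTheory.Abelianization.Defs

/-! The matrix group is perfect. -/

set_option autoImplicit false
set_option maxRecDepth 100000

namespace Cfsg.Agent.J3Model

open Cfsg.Spor Matrix
open Cfsg.Agent.RigidGraph.J3 (j3Group)
open scoped commutatorElement

/-- the scalar is a commutator of a translation and a diagonal -/
def scalarCommOK : Bool :=
  let X := genList.getD 3 []
  let Y := genList.getD 21 []
  mulC X Y == mulC omegaC (mulC Y X) && Nat.beq X.length 9 && Nat.beq Y.length 9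

theorem scalarComm_ok : scalarCommOK = true := by decide +kernel

theorem omega00 : (omegaC.getD (ix (z9 0)) 0).testBit (ix (z9 0)) = false ∧
    (omegaC.getD (ix (z9 0)) 0).testBit (9 + ix (z9 0)) = true := by decide +kernel

theorem omegaC_length : omegaC.length = 9 := by simp [omegaC, oneC]

variable {F : Type*} [Field F] [Fintype F] (hF : Fintype.card F = 4) {ω : F} (hω : ω ^ 2 + ω + 1 = 0)

include hF hω

theorem threeJ3_perfect : commutator ↥(threeJ3 F ω) = ⊤ := by
  classical
  have h2 := two_zero hF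
  obtain ⟨e0, e1, -, e3, e4, e5, -⟩ := ends_facts
  have hm : ∀ k < 44, InGrp ω (threeJ3 F ω) (abNodes.getD (abTgt.getD k 0) []) := fun k hk => by
    rw [← closure_ab h2 hω]
    refine prog_mem h2 hω ab_prog (fun i hi => ?_) _ (e5 k hk)
    interval_cases i
    · exact ⟨unitA h2 hω, Subgroup.subset_closure (Or.inl rfl), by rw [e0]; rfl⟩
    · exact ⟨unitB h2 hω, Subgroup.subset_closure (Or.inr rfl), by rw [e1]; rfl⟩
  obtain ⟨x, hx, ex⟩ := hm 3 (by norm_num)
  obtain ⟨y, hy, ey⟩ := hm 21 (by norm_num)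
  obtain ⟨z, hz, ez⟩ := hm 43 (by norm_num)
  rw [e3 3 (by norm_num)] at ex
  rw [e3 21 (by norm_num)] at ey
  rw [e4] at ez
  have hc := scalarComm_ok
  simp only [scalarCommOK, Bool.and_eq_true, beq_iff_eq, Nat.beq_eq] at hc
  obtain ⟨⟨hxy, hlx⟩, hly⟩ := hc
  have hcomm : x * y = z * (y * x) := by
    refine Units.ext ?_
    rw [Units.val_mul, Units.val_mul, Units.val_mul, ex, ey, ez, ← matF_mulC h2 hω hly, ← matF_mulC h2 hω hlx,
      ← matF_mulC h2 hω (by simpa [mulC] using hlx), hxy]
  have hzc : (⟨z, hz⟩ : ↥(threeJ3 F ω)) ∈ commutator ↥(threeJ3 F ω) := by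
    have e : (⟨z, hz⟩ : ↥(threeJ3 F ω)) = ⁅(⟨x, hx⟩ : ↥(threeJ3 F ω)), ⟨y, hy⟩⁆ := Subtype.ext (by
      rw [commutatorElement_def]
      simp only [Subgroup.coe_mul, Subgroup.coe_inv]
      rw [hcomm]; group)
    rw [e]
    exact Subgroup.commutator_mem_commutator (Subgroup.mem_top _) (Subgroup.mem_top _)
  have hzker : (⟨z, hz⟩ : ↥(threeJ3 F ω)) ∈ (theta hF hω).ker := by
    refine (theta_eq_one hF hω _).2 ⟨ω, (omega_ne h2 hω).1, ?_⟩
    show (z : Matrix F9 F9 F) = ω • (1 : Matrix F9 F9 F)
    rw [ez, ← matF_oneC (ω := ω)]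
    refine Matrix.ext fun w u => ?_
    show vecF ω ((oneC.map wmul).getD (ix u) 0) w = ω * vecF ω (oneC.getD (ix u) 0) w
    rw [List.getD_eq_getElem _ _ (by simp [oneC]; exact ix_lt u), List.getElem_map, vecF_wmul h2 hω,
      List.getD_eq_getElem]
    rfl
  have hz1 : (⟨z, hz⟩ : ↥(threeJ3 F ω)) ≠ 1 := by
    intro h
    have h' : matF ω omegaC = 1 := by rw [← ez, show z = 1 from congrArg Subtype.val h, Units.val_one]
    have h00 := congrFun (congrFun h' (z9 0)) (z9 0)
    simp only [matF, Matrix.of_apply, vecF, omega00.1, omega00.2, bitF, cond_false, cond_true, zero_add, one_mul,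
      Matrix.one_apply_eq] at h00
    exact (omega_ne h2 hω).2 h00
  have hker : (theta hF hω).ker ≤ commutator ↥(threeJ3 F ω) := by
    haveI : Fact (Nat.Prime 3) := ⟨Nat.prime_three⟩
    have hcard := card_ker hF hω
    intro g hg
    have : Subgroup.zpowers (⟨z, hz⟩ : ↥(threeJ3 F ω)) = (theta hF hω).ker := by
      refine Subgroup.eq_of_le_of_card_ge (Subgroup.zpowers_le.2 hzker) ?_
      rw [hcard]
      have h3 : orderOf (⟨z, hz⟩ : ↥(threeJ3 F ω)) = 3 := by
        have hdvd : orderOf (⟨z, hz⟩ : ↥(threeJ3 F ω)) ∣ 3 := by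
          exact (Subgroup.orderOf_dvd_natCard _ hzker).trans hcard.dvd
        rcases (Nat.dvd_prime Nat.prime_three).1 hdvd with h | h
        · exact absurd (orderOf_eq_one_iff.1 h) hz1
        · exact h
      rw [Nat.card_zpowers, h3]
    exact Subgroup.zpowers_le.2 hzc (this ▸ hg)
  have hJ : commutator ↥j3Group = ⊤ := by
    haveI := simple_j3
    rcases IsSimpleGroup.eq_bot_or_eq_top_of_normal (commutator ↥j3Group) inferInstance with h | h
    · exfalso
      have hbt : Subgroup.center ↥j3Group = ⊤ := (Subgroup.eq_top_iff' _).2 fun a => Subgroup.mem_center_iff.2 fun b => by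
        have := Subgroup.commutator_mem_commutator (Subgroup.mem_top b) (Subgroup.mem_top a)
        rw [← commutator_def, h, Subgroup.mem_bot, commutatorElement_eq_one_iff_mul_comm] at this
        exact this
      rw [center_j3] at hbt
      exact bot_ne_top hbt
    · exact h
  refine (Subgroup.eq_top_iff' _).2 fun g => ?_
  have hg : theta hF hω g ∈ (commutator ↥(threeJ3 F ω)).map (theta hF hω) := by
    rw [commutator_def, Subgroup.map_commutator, ← MonoidHom.range_eq_map,
      MonoidHom.range_eq_top.2 (theta_surj hF hω), ← commutator_def, hJ]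
    exact Subgroup.mem_top _
  obtain ⟨k, hk, ek⟩ := Subgroup.mem_map.1 hg
  have := mul_mem hk (hker (show k⁻¹ * g ∈ (theta hF hω).ker by rw [MonoidHom.mem_ker, map_mul, map_inv, ek, inv_mul_cancel]))
  rwa [mul_inv_cancel_left] at this

end Cfsg.Agent.J3Model
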