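import Cfsg.Agent.Lib.J3Model.Gens
import Cfsg.Agent.Lib.J3Model.Data
import Cfsg.Agent.Lib.RigidGraph.Basic

/-! The coded subspaces. -/

set_option autoImplicit false
set_option maxRecDepth 100000

namespace Cfsg.Agent.J3Model

open Cfsg.Spor Matrix
open Cfsg.Agent.RigidGraph (Trie slot allB allB_spec)

/-- a stored basis vector -/
noncomputable def rowS (i k : ℕ) : ℕ := Nat.mod (Nat.shiftRight (subs.get i) (18 * k)) 262144

/-- its pivot -/
noncomputable def pivS (i k : ℕ) : ℕ := Nat.mod (Nat.shiftRight (subs.get i) (72 + 4 * k)) 16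

/-- the correction by one basis vector -/
noncomputable def redTerm (i v k : ℕ) : ℕ :=
  smulC (v.testBit (pivS i k)) (v.testBit (9 + pivS i k)) (rowS i k)

/-- the reduction by a subspace -/
noncomputable def redC (i v : ℕ) : ℕ :=
  Nat.xor v (Nat.xor (redTerm i v 0) (Nat.xor (redTerm i v 1) (Nat.xor (redTerm i v 2) (redTerm i v 3))))

/-- a coded combination -/
noncomputable def combC (i : ℕ) (c : ℕ) : ℕ :=
  Nat.xor (smulC (c.testBit 0) (c.testBit 1) (rowS i 0)) (Nat.xor (smulC (c.testBit 2) (c.testBit 3) (rowS i 1))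
    (Nat.xor (smulC (c.testBit 4) (c.testBit 5) (rowS i 2)) (smulC (c.testBit 6) (c.testBit 7) (rowS i 3))))

variable {F : Type*} [Field F] (ω : F)

/-- a subspace -/
noncomputable def spanS (i : ℕ) : Submodule F (F9 → F) :=
  Submodule.span F (Set.range fun k : Fin 4 => vecF ω (rowS i k))

theorem row_mem (i k : ℕ) (hk : k < 4) : vecF ω (rowS i k) ∈ spanS ω i :=
  Submodule.subset_span ⟨⟨k, hk⟩, rfl⟩

variable {ω} (h2 : (2 : F) = 0) (hω : ω ^ 2 + ω + 1 = 0)

include h2 hω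

theorem mem_of_redC {i v : ℕ} (h : redC i v = 0) : vecF ω v ∈ spanS ω i := by
  have e := congrArg (vecF ω) h
  simp only [redC, redTerm, vecF_xor h2, vecF_smulC h2 hω, vecF_zero] at e
  rw [← eq_neg_iff_add_eq_zero.2 e |>.symm]
  refine neg_mem (add_mem ?_ (add_mem ?_ (add_mem ?_ ?_))) <;>
    exact Submodule.smul_mem _ _ (row_mem ω i _ (by norm_num))

/-- the reduction as a linear map -/
noncomputable def redL (i : ℕ) : (F9 → F) →ₗ[F] (F9 → F) where
  toFun x := x + ∑ k : Fin 4, x (z9 (pivS i k)) • vecF ω (rowS i k)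
  map_add' x y := by simp only [Pi.add_apply, add_smul, Finset.sum_add_distrib]; abel
  map_smul' c x := by simp only [Pi.smul_apply, smul_eq_mul, mul_smul, ← Finset.smul_sum, RingHom.id_apply, smul_add]

theorem redL_vec {i v : ℕ} (hp : ∀ k < 4, pivS i k < 9) :
    redL (ω := ω) i (vecF ω v) = vecF ω (redC i v) := by
  simp only [redL, LinearMap.coe_mk, AddHom.coe_mk]
  simp only [redC, redTerm, vecF_xor h2, vecF_smulC h2 hω, Fin.sum_univ_four]
  have e : ∀ k, k < 4 → vecF ω v (z9 (pivS i k)) =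
      bitF (v.testBit (pivS i k)) + bitF (v.testBit (9 + pivS i k)) * ω := fun k hk => by
    simp only [vecF, ix_z9 _ (hp k hk)]
  rw [← e 0 (by norm_num), ← e 1 (by norm_num), ← e 2 (by norm_num), ← e 3 (by norm_num)]
  simp only [Fin.val_zero, Fin.val_one, Fin.val_two, show ((3 : Fin 4) : ℕ) = 3 from rfl]
  abel

theorem redL_span {i : ℕ} (hp : ∀ k < 4, pivS i k < 9) (hr : ∀ k < 4, redC i (rowS i k) = 0)
    {x : F9 → F} (hx : x ∈ spanS ω i) : redL (ω := ω) i x = 0 := by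
  refine (Submodule.span_le.2 ?_ : spanS ω i ≤ LinearMap.ker (redL (ω := ω) i)) hx
  rintro _ ⟨k, rfl⟩
  rw [SetLike.mem_coe, LinearMap.mem_ker, redL_vec h2 hω hp, hr k k.2, vecF_zero]

theorem omega_ne : ω ≠ 0 ∧ ω ≠ 1 := by
  refine ⟨fun h => ?_, fun h => ?_⟩
  · rw [h] at hω; simp at hω
  · rw [h] at hω
    have : (1 : F) = 0 := by linear_combination hω - h2
    exact one_ne_zero this

theorem bitsF_zero {a b : Bool} (h : (bitF a : F) + bitF b * ω = 0) : a = false ∧ b = false := by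
  obtain ⟨h0, h1⟩ := omega_ne h2 hω
  cases a <;> cases b <;> simp [bitF] at h ⊢
  · exact h0 h
  · exact h1 (by linear_combination h - h2)

theorem vecF_eq_zero {v : ℕ} (hv : v < 2 ^ 18) (h : vecF ω v = 0) : v = 0 := by
  refine Nat.eq_of_testBit_eq fun k => ?_
  rw [Nat.zero_testBit]
  by_cases hk : k < 18
  · have e := bitsF_zero h2 hω (congrFun h (z9 (k % 9)))
    rw [ix_z9 _ (Nat.mod_lt _ (by norm_num))] at e
    by_cases h9 : k < 9
    · rw [Nat.mod_eq_of_lt h9] at e; exact e.1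
    · rw [show k % 9 = k - 9 by omega, show 9 + (k - 9) = k by omega] at e; exact e.2
  · exact Nat.testBit_lt_two_pow (hv.trans_le (Nat.pow_le_pow_right (by norm_num) (by omega)))

theorem scalF_surj [Fintype F] (hF : Fintype.card F = 4) (c : F) :
    ∃ a b : Bool, c = bitF a + bitF b * ω := by
  have hinj : Function.Injective fun p : Bool × Bool => (bitF p.1 + bitF p.2 * ω : F) := by
    rintro ⟨a, b⟩ ⟨a', b'⟩ e
    have : (bitF (a ^^ a') : F) + bitF (b ^^ b') * ω = 0 := by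
      rw [bitF_xor h2, bitF_xor h2]
      simp only at e
      linear_combination e + (bitF a' + bitF b' * ω) * h2
    obtain ⟨e1, e2⟩ := bitsF_zero h2 hω this
    cases a <;> cases a' <;> cases b <;> cases b' <;> simp_all
  have hb := (Fintype.bijective_iff_injective_and_card _).2 ⟨hinj, by simp [hF]⟩
  obtain ⟨⟨a, b⟩, e⟩ := hb.2 c
  exact ⟨a, b, e.symm⟩

theorem mem_span_comb [Fintype F] (hF : Fintype.card F = 4) {i : ℕ} {x : F9 → F} (hx : x ∈ spanS ω i) :
    ∃ c < 256, x = vecF ω (combC i c) := by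
  obtain ⟨f, rfl⟩ := (Submodule.mem_span_range_iff_exists_fun F).1 hx
  choose a b hab using fun k => scalF_surj h2 hω hF (f k)
  have key : ∀ a0 b0 a1 b1 a2 b2 a3 b3 : Bool, ∃ c < 256, (Nat.testBit c 0 = a0 ∧ Nat.testBit c 1 = b0) ∧
      (Nat.testBit c 2 = a1 ∧ Nat.testBit c 3 = b1) ∧ (Nat.testBit c 4 = a2 ∧ Nat.testBit c 5 = b2) ∧
      (Nat.testBit c 6 = a3 ∧ Nat.testBit c 7 = b3) := by
    intro a0 b0 a1 b1 a2 b2 a3 b3
    refine ⟨a0.toNat + 2 * b0.toNat + 4 * a1.toNat + 8 * b1.toNat + 16 * a2.toNat + 32 * b2.toNat +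
      64 * a3.toNat + 128 * b3.toNat, ?_, ?_⟩
    · cases a0 <;> cases b0 <;> cases a1 <;> cases b1 <;> cases a2 <;> cases b2 <;> cases a3 <;> cases b3 <;> decide
    · cases a0 <;> cases b0 <;> cases a1 <;> cases b1 <;> cases a2 <;> cases b2 <;> cases a3 <;> cases b3 <;> decide
  obtain ⟨c, hc, ⟨c0, c1⟩, ⟨c2, c3⟩, ⟨c4, c5⟩, ⟨c6, c7⟩⟩ := key (a 0) (b 0) (a 1) (b 1) (a 2) (b 2) (a 3) (b 3)
  refine ⟨c, hc, ?_⟩
  simp only [combC, vecF_xor h2, vecF_smulC h2 hω, Fin.sum_univ_four, c0, c1, c2, c3, c4, c5, c6, c7, ← hab]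
  simp only [Fin.val_zero, Fin.val_one, Fin.val_two, show ((3 : Fin 4) : ℕ) = 3 from rfl]
  abel

end Cfsg.Agent.J3Model
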