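import Cfsg.Agent.Lib.J3Model.Main
import Mathlib.GroupTheory.Abelianization.Defs

/-! Order, centre and central quotient of the matrix group. -/

set_option autoImplicit false
set_option maxRecDepth 100000

namespace Cfsg.Agent.J3Model

open Cfsg.Spor Matrix
open Cfsg.Agent.RigidGraph.J3 (j3Group card_j3Group)

variable {F : Type*} [Field F] [Fintype F] (hF : Fintype.card F = 4) {ω : F} (hω : ω ^ 2 + ω + 1 = 0)

include hF hω

theorem exists_action : ∃ θ : ↥(threeJ3 F ω) →* ↥j3Group, Function.Surjective θ ∧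
    ∀ g, θ g = 1 ↔ ∃ c : F, c ≠ 0 ∧ ((g : GL F9 F) : Matrix F9 F9 F) = c • (1 : Matrix F9 F9 F) := by
  classical
  have h2 := two_zero hF
  set D := actPairs h2 hω
  have hinj := fst_inj h2 hω
  have hr : ((MonoidHom.fst (GL F9 F) (Equiv.Perm (Fin 6156))).comp D.subtype).range = threeJ3 F ω := by
    rw [MonoidHom.range_comp, Subgroup.range_subtype, map_fst]
  let e : ↥D ≃* ↥(threeJ3 F ω) := (MonoidHom.ofInjective hinj).trans (MulEquiv.subgroupCongr hr)
  let π : ↥D →* ↥j3Group :=
    ((MonoidHom.snd (GL F9 F) (Equiv.Perm (Fin 6156))).comp D.subtype).codRestrict j3Group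
      fun d => map_snd h2 hω ▸ Subgroup.mem_map_of_mem _ d.2
  have hπ : Function.Surjective π := fun s => by
    have hs : (s : Equiv.Perm (Fin 6156)) ∈ D.map (MonoidHom.snd (GL F9 F) (Equiv.Perm (Fin 6156))) := by
      rw [map_snd]; exact s.2
    obtain ⟨d, hd, e'⟩ := Subgroup.mem_map.1 hs
    exact ⟨⟨d, hd⟩, Subtype.ext e'⟩
  let θ := π.comp e.symm.toMonoidHom
  have hθ : Function.Surjective θ := hπ.comp e.symm.surjective
  refine ⟨θ, hθ, fun g => ⟨fun h => ?_, fun h => ?_⟩⟩
  · obtain ⟨d, rfl⟩ := e.surjective g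
    have hd : θ (e d) = π d := by simp [θ]
    rw [hd] at h
    have h' : ((d : GL F9 F × Equiv.Perm (Fin 6156))).2 = 1 := congrArg Subtype.val h
    have hu : (((d : GL F9 F × Equiv.Perm (Fin 6156))).1, (1 : Equiv.Perm (Fin 6156))) ∈ D := by
      rw [← h']; exact d.2
    exact scalar_of h2 hω hF hu
  · obtain ⟨c, -, hc⟩ := h
    have hg : g ∈ Subgroup.center ↥(threeJ3 F ω) := Subgroup.mem_center_iff.2 fun y => Subtype.ext (Units.ext (by
      simp [hc]))
    have hm : θ g ∈ Subgroup.center ↥j3Group := Subgroup.mem_center_iff.2 fun s => by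
      obtain ⟨y, rfl⟩ := hθ s
      rw [← map_mul, ← map_mul, Subgroup.mem_center_iff.1 hg y]
    rwa [center_j3, Subgroup.mem_bot] at hm

/-- The quotient map onto the group on 6156 points. -/
noncomputable def theta : ↥(threeJ3 F ω) →* ↥j3Group := (exists_action hF hω).choose

theorem theta_surj : Function.Surjective (theta hF hω) := (exists_action hF hω).choose_spec.1

theorem theta_eq_one (g : ↥(threeJ3 F ω)) :
    theta hF hω g = 1 ↔ ∃ c : F, c ≠ 0 ∧ ((g : GL F9 F) : Matrix F9 F9 F) = c • (1 : Matrix F9 F9 F) :=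
  (exists_action hF hω).choose_spec.2 g

theorem center_eq : Subgroup.center ↥(threeJ3 F ω) = (theta hF hω).ker := by
  refine le_antisymm (fun g hg => ?_) (fun g hg => ?_)
  · have hm : theta hF hω g ∈ Subgroup.center ↥j3Group := Subgroup.mem_center_iff.2 fun s => by
      obtain ⟨y, rfl⟩ := theta_surj hF hω s
      rw [← map_mul, ← map_mul, Subgroup.mem_center_iff.1 hg y]
    rwa [center_j3, Subgroup.mem_bot] at hm
  · obtain ⟨c, -, hc⟩ := (theta_eq_one hF hω g).1 hg
    exact Subgroup.mem_center_iff.2 fun y => Subtype.ext (Units.ext (by simp [hc]))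

theorem card_ker : Nat.card (theta hF hω).ker = 3 := by
  classical
  have h2 := two_zero hF
  obtain ⟨hω0, hω1⟩ := omega_ne h2 hω
  obtain ⟨z, hz, ez⟩ := omega_mem h2 hω
  have hmem : ∀ n : ℕ, (⟨z, hz⟩ : ↥(threeJ3 F ω)) ^ n ∈ (theta hF hω).ker := fun n =>
    (theta_eq_one hF hω _).2 ⟨ω ^ n, pow_ne_zero n hω0, by simp [ez, smul_pow]⟩
  have hcard : Fintype.card {c : F // c ≠ 0} = 3 := by
    rw [Fintype.card_subtype_compl, Fintype.card_subtype_eq, hF]
  let f : (theta hF hω).ker → {c : F // c ≠ 0} := fun g =>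
    ⟨((theta_eq_one hF hω g).1 g.2).choose, ((theta_eq_one hF hω g).1 g.2).choose_spec.1⟩
  have hf : ∀ g : (theta hF hω).ker, (((g : ↥(threeJ3 F ω)) : GL F9 F) : Matrix F9 F9 F) =
      (f g : F) • (1 : Matrix F9 F9 F) := fun g => ((theta_eq_one hF hω g).1 g.2).choose_spec.2
  have hinj : Function.Injective f := fun g h e => by
    refine Subtype.ext (Subtype.ext (Units.ext ?_))
    rw [hf, hf, e]
  have hne : ∀ a b : F, a • (1 : Matrix F9 F9 F) = b • (1 : Matrix F9 F9 F) → a = b := fun a b e => by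
    simpa using congrFun (congrFun e 0) 0
  have hsurj : Function.Surjective f := by
    intro ⟨c, hc⟩
    obtain ⟨a, b, rfl⟩ := scalF_surj h2 hω hF c
    obtain ⟨n, hn⟩ : ∃ n : ℕ, ω ^ n = bitF a + bitF b * ω := by
      cases a <;> cases b
      · simp [bitF] at hc
      · exact ⟨1, by simp [bitF]⟩
      · exact ⟨0, by simp [bitF]⟩
      · refine ⟨2, ?_⟩
        simp [bitF]
        linear_combination hω - (1 + ω) * h2
    refine ⟨⟨_, hmem n⟩, Subtype.ext (hne _ _ ?_)⟩
    rw [← hf]
    simp [ez, smul_pow, hn]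
  rw [Nat.card_eq_of_bijective f ⟨hinj, hsurj⟩, Nat.card_eq_fintype_card, hcard]

theorem card_center : Nat.card (Subgroup.center ↥(threeJ3 F ω)) = 3 := by
  rw [center_eq hF hω, card_ker]

theorem card_threeJ3 : Nat.card ↥(threeJ3 F ω) = 150698880 := by
  rw [← Subgroup.card_mul_index (theta hF hω).ker, card_ker, Subgroup.index_ker,
    MonoidHom.range_eq_top.2 (theta_surj hF hω), Subgroup.card_top, card_j3Group]

/-- The central quotient is the group on 6156 points. -/
noncomputable def quotEquiv : J3 F ω ≃* ↥j3Group :=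
  (QuotientGroup.quotientMulEquivOfEq (center_eq hF hω)).trans
    (QuotientGroup.quotientKerEquivOfSurjective _ (theta_surj hF hω))

theorem card_J3 : Nat.card (J3 F ω) = 50232960 := by
  rw [Nat.card_congr (quotEquiv hF hω).toEquiv, card_j3Group]

theorem simple_J3 : IsSimpleGroup (J3 F ω) := by
  haveI := simple_j3
  haveI : Nontrivial (J3 F ω) := (quotEquiv hF hω).toEquiv.nontrivial
  exact IsSimpleGroup.isSimpleGroup_of_surjective (quotEquiv hF hω).symm.toMonoidHom (quotEquiv hF hω).symm.surjective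

end Cfsg.Agent.J3Model
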